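import Cfsg.Agent.H878.JM.FiveTree
import Cfsg.Agent.H878.JM.FT.F00
import Cfsg.Agent.H878.JM.FT.F01
import Cfsg.Agent.H878.JM.FT.F02
import Cfsg.Agent.H878.JM.FT.F03
import Cfsg.Agent.H878.JM.FT.F04
import Cfsg.Agent.H878.JM.FT.F05
import Cfsg.Agent.H878.JM.FT.F06
import Cfsg.Agent.H878.JM.FT.F07
import Cfsg.Agent.H878.JM.FT.F08
import Cfsg.Agent.H878.JM.FT.F09
import Cfsg.Agent.H878.JM.FT.F10
import Cfsg.Agent.H878.JM.FT.F11
import Cfsg.Agent.H878.JM.FT.F12
import Cfsg.Agent.H111.JM.TList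
import Cfsg.Agent.H856.JM.AnGen

/-!
# The ten classes of triples `(y, v, a)` generating an `A5` in `J4` (Part III of S5580)

`five`: every triple `T5 y v a` is conjugate to one of `(y0, v3, a3)`, `(y0, v4, a4)`, `(y0, v5, a5)`, `(y0, v6, a6)`,
`(y0, v7, a7a)`, `(y0, v7, a7b)`, `(y0, v8, a8)`, `(y0, v9, a9a)`, `(y0, v9, a9b)`, `(y0, v9, a9c)`.
-/

set_option autoImplicit false

open Cfsg

namespace Cfsg.Agent.H878.JM.Five

open Cfsg.Agent.Lib Cfsg.Agent.Lib.F2MatGroup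
open Cfsg.Agent.J4.Rep112
open Cfsg.Agent.H858.VK
open Cfsg.Agent.H878.JM.Base Cfsg.Agent.H878.JM.Elts Cfsg.Agent.H878.JM.FiveTest Cfsg.Agent.H878.JM.FiveTree
open Cfsg.Agent.H878.JM.FT
open Cfsg.Agent.H111.JM.Eng Cfsg.Agent.H111.JM.Env Cfsg.Agent.H111.JM.TList
open Cfsg.Agent.H856.JM

instance finJ4 : Finite Cfsg.Spor.J4 := Cfsg.Agent.H858.VK.finite_J4

theorem all_pieces : ∀ p ∈ PL, ∀ t ∈ p.vis CJ TJ, ∃ M, Codes 112 (rho t) M ∧ tst M = true := by
  simp only [PL, List.forall_mem_cons]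
  exact ⟨chk_sound r0, chk_sound r1, chk_sound r2, chk_sound r3, chk_sound r4, chk_sound r5, chk_sound r6, chk_sound r7,
    chk_sound r8, chk_sound r9, chk_sound r10, chk_sound r11, chk_sound r12, chk_sound r13, chk_sound r14,
    chk_sound r15, chk_sound r16, chk_sound r17, chk_sound r18, chk_sound r19, chk_sound r20, chk_sound r21,
    chk_sound r22, chk_sound r23, chk_sound r24, chk_sound r25, chk_sound r26, chk_sound r27, chk_sound r28,
    chk_sound r29, chk_sound r30, chk_sound r31, chk_sound r32, chk_sound r33, chk_sound r34, chk_sound r35,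
    chk_sound r36, chk_sound r37, chk_sound r38, chk_sound r39, chk_sound r40, chk_sound r41, chk_sound r42,
    chk_sound r43, chk_sound r44, chk_sound r45, chk_sound r46, chk_sound r47, chk_sound r48, chk_sound r49,
    chk_sound r50, chk_sound r51, fun _ h => absurd h List.not_mem_nil⟩

theorem all_tst (hcard : Nat.card {t // TY t} ≤ 10296) {t : Cfsg.Spor.J4} (ht : TY t) :
    ∃ M, Codes 112 (rho t) M ∧ tst M = true := T_forall hcard all_pieces ht

theorem TY_conj {c t : Cfsg.Spor.J4} (hc : c * y0 = y0 * c) (ht : TY (c * t * c⁻¹)) : TY t := by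
  obtain ⟨h1, h2⟩ := ht
  have hc' : c⁻¹ * y0 * c = y0 := by rw [mul_assoc, ← hc, inv_mul_cancel_left]
  have hc2 : c * y0 * c⁻¹ = y0 := by rw [hc, mul_inv_cancel_right]
  constructor
  · have : t * t = c⁻¹ * (c * t * c⁻¹ * (c * t * c⁻¹)) * c := by group
    rw [this, h1, mul_one, inv_mul_cancel]
  · have h3 : t * y0 * t⁻¹ = c⁻¹ * (c * t * c⁻¹ * (c * y0 * c⁻¹) * (c * t * c⁻¹)⁻¹) * c := by group
    rw [h3, hc2, h2]
    have h4 : c⁻¹ * y0⁻¹ * c = (c⁻¹ * y0 * c)⁻¹ := by group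
    rw [h4, hc']

theorem TY_of {t : Cfsg.Spor.J4} (h1 : t * t = 1) (h2 : t * (y0 * (t * y0)) = 1) : TY t := by
  refine ⟨h1, ?_⟩
  have h3 : t⁻¹ = t := inv_eq_of_mul_eq_one_left h1
  rw [h3]
  refine eq_inv_of_mul_eq_one_left ?_
  rw [← h2]
  simp only [mul_assoc]

theorem gF {j k : ℕ} (h : 154 + k = j) : getG LF j = getG LE k := by rw [← h]; exact getF_old k

theorem e_a3 : getG LE 235 = a3 := by unfold a3; rfl
theorem e_a4 : getG LE 228 = a4 := by unfold a4; rfl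
theorem e_a5 : getG LE 221 = a5 := by unfold a5; rfl
theorem e_a6 : getG LE 209 = a6 := by unfold a6; rfl
theorem e_a7a : getG LE 206 = a7a := by unfold a7a; rfl
theorem e_a7b : getG LE 204 = a7b := by unfold a7b; rfl
theorem e_a8 : getG LE 193 = a8 := by unfold a8; rfl
theorem e_a9a : getG LE 184 = a9a := by unfold a9a; rfl
theorem e_a9b : getG LE 179 = a9b := by unfold a9b; rfl
theorem e_a9c : getG LE 193 = a9c := by unfold a9c; rfl

/-- the solutions of `(v t)^3 = 1` -/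
theorem sols {I K gn' : List ℕ} {gn : List (ℕ × ℕ)} {tr : List (ℕ × ℕ × ℕ × ℕ)} {v : Cfsg.Spor.J4} {vi : ℕ}
    {L' : List ℕ} (hL' : List.Forall₂ (Codes 112) (LF.map rho) L') (hk : keysOf L' I K = true)
    (hv : getG LF vi = v)
    (hes : ∀ q ∈ esT tr ++ esG vi gn, q ∈ esF)
    (hgn : (tr.all fun e => gn.contains (e.2.2.1, e.2.2.2)) = true)
    (hI : (I.all fun k => (grow gn' tr).contains k) = true)
    {P : Cfsg.Spor.J4 → Prop} (hP : ∀ k ∈ gn', P (getG LF k)) (hPT : ∀ x, P x → TY x)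
    (hcard : Nat.card {t // TY t} ≤ 10296) {t : Cfsg.Spor.J4} (ht : TY t)
    (hkey : ∀ M, Codes 112 (rho t) M → tst M = true → key 12159 24 M ∈ K) :
    ∃ c, c * y0 = y0 * c ∧ c * v = v * c ∧ P (c * t * c⁻¹) := by
  have hy : getG LF 436 = y0 := (gF (j := 436) (k := 282) (by norm_num)).trans e_y0
  have hT : ∀ e ∈ tr, (e.2.2.1, e.2.2.2) ∈ gn ∧
      getG LF e.1 = getG LF e.2.2.2 * (getG LF e.2.1 * getG LF e.2.2.1) := by
    intro e he
    refine ⟨List.contains_iff_mem.1 (List.all_eq_true.1 hgn e he), ?_⟩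
    have h1 := FiveTree.sound.1 _ (hes _ (List.mem_append_left _ (List.mem_map.2 ⟨e, he, rfl⟩)))
    simp only [evG_cons, evG_nil, mul_one] at h1
    exact h1
  have hg : ∀ p ∈ gn, getG LF p.2 * getG LF p.1 = 1 ∧ getG LF p.1 * y0 = y0 * getG LF p.1 ∧
      getG LF p.1 * v = v * getG LF p.1 := by
    intro p hp
    have h0 : ∀ q ∈ [([p.2, p.1], []), ([p.1, 436], [436, p.1]), ([p.1, vi], [vi, p.1])],
        evG LF q.1 = evG LF q.2 := fun q hq =>
      FiveTree.sound.1 q (hes q (List.mem_append_right _ (List.mem_flatMap.2 ⟨p, hp, hq⟩)))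
    refine ⟨?_, ?_, ?_⟩
    · have h1 := h0 ([p.2, p.1], []) (by simp)
      simpa only [evG_cons, evG_nil, mul_one] using h1
    · have h1 := h0 ([p.1, 436], [436, p.1]) (by simp)
      simpa only [evG_cons, evG_nil, mul_one, hy] using h1
    · have h1 := h0 ([p.1, vi], [vi, p.1]) (by simp)
      simpa only [evG_cons, evG_nil, mul_one, hv] using h1
  have key1 : ∀ k ∈ I, ∃ c, c * y0 = y0 * c ∧ c * v = v * c ∧ P (c * getG LF k * c⁻¹) := by
    intro k hk'
    refine tree (P := P) hg hT (R := gn') ?_ k (List.contains_iff_mem.1 (List.all_eq_true.1 hI k hk'))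
    intro k hk
    refine ⟨1, by simp, by simp, ?_⟩
    simpa using hP k hk
  obtain ⟨M, hM, htst⟩ := all_tst hcard ht
  have h1 := hkey M hM htst
  obtain ⟨k, hkI, hkk⟩ : ∃ k ∈ I, key 12159 24 (get (F2Mat.one 112) L' k) = key 12159 24 M := by
    have h2 := keysOf_sound hk
    clear hkey hI key1 hk
    induction h2 with
    | nil => exact absurd h1 List.not_mem_nil
    | @cons i k I K h3 _ ih =>
      rcases List.mem_cons.1 h1 with h4 | h4
      · exact ⟨i, List.mem_cons_self, by rw [h3, h4]⟩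
      · obtain ⟨j, hj, h5⟩ := ih h4
        exact ⟨j, List.mem_cons_of_mem _ hj, h5⟩
  obtain ⟨c, hc1, hc2, hc3⟩ := key1 k hkI
  have hTk : TY (getG LF k) := TY_conj hc1 (hPT _ hc3)
  have hck : Codes 112 (rho (getG LF k)) (get (F2Mat.one 112) L' k) := by
    have := codes_get hL' k
    rwa [getG_map] at this
  have heq : t = getG LF k := key_inj hcard ht hTk (a := key 12159 24 M) ⟨M, hM, rfl⟩ ⟨_, hck, hkk⟩
  rw [heq]
  exact ⟨c, hc1, hc2, hc3⟩

theorem TY_a3 : TY a3 := by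
  refine TY_of ?_ ?_
  · have h := Elts.sound.1 ([235, 235], []) (by decide)
    simp only [evG_cons, evG_nil, mul_one] at h
    exact h
  · have h := Elts.sound.1 ([235, 282, 235, 282], []) (by decide)
    simp only [evG_cons, evG_nil, mul_one, e_y0] at h
    exact h

theorem TY_a4 : TY a4 := by
  refine TY_of ?_ ?_
  · have h := Elts.sound.1 ([228, 228], []) (by decide)
    simp only [evG_cons, evG_nil, mul_one] at h
    exact h
  · have h := Elts.sound.1 ([228, 282, 228, 282], []) (by decide)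
    simp only [evG_cons, evG_nil, mul_one, e_y0] at h
    exact h

theorem TY_a5 : TY a5 := by
  refine TY_of ?_ ?_
  · have h := Elts.sound.1 ([221, 221], []) (by decide)
    simp only [evG_cons, evG_nil, mul_one] at h
    exact h
  · have h := Elts.sound.1 ([221, 282, 221, 282], []) (by decide)
    simp only [evG_cons, evG_nil, mul_one, e_y0] at h
    exact h

theorem TY_a6 : TY a6 := by
  refine TY_of ?_ ?_
  · have h := Elts.sound.1 ([209, 209], []) (by decide)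
    simp only [evG_cons, evG_nil, mul_one] at h
    exact h
  · have h := Elts.sound.1 ([209, 282, 209, 282], []) (by decide)
    simp only [evG_cons, evG_nil, mul_one, e_y0] at h
    exact h

theorem TY_a7a : TY a7a := by
  refine TY_of ?_ ?_
  · have h := Elts.sound.1 ([206, 206], []) (by decide)
    simp only [evG_cons, evG_nil, mul_one] at h
    exact h
  · have h := Elts.sound.1 ([206, 282, 206, 282], []) (by decide)
    simp only [evG_cons, evG_nil, mul_one, e_y0] at h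
    exact h

theorem TY_a7b : TY a7b := by
  refine TY_of ?_ ?_
  · have h := Elts.sound.1 ([204, 204], []) (by decide)
    simp only [evG_cons, evG_nil, mul_one] at h
    exact h
  · have h := Elts.sound.1 ([204, 282, 204, 282], []) (by decide)
    simp only [evG_cons, evG_nil, mul_one, e_y0] at h
    exact h

theorem TY_a8 : TY a8 := by
  refine TY_of ?_ ?_
  · have h := Elts.sound.1 ([193, 193], []) (by decide)
    simp only [evG_cons, evG_nil, mul_one] at h
    exact h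
  · have h := Elts.sound.1 ([193, 282, 193, 282], []) (by decide)
    simp only [evG_cons, evG_nil, mul_one, e_y0] at h
    exact h

theorem TY_a9a : TY a9a := by
  refine TY_of ?_ ?_
  · have h := Elts.sound.1 ([184, 184], []) (by decide)
    simp only [evG_cons, evG_nil, mul_one] at h
    exact h
  · have h := Elts.sound.1 ([184, 282, 184, 282], []) (by decide)
    simp only [evG_cons, evG_nil, mul_one, e_y0] at h
    exact h

theorem TY_a9b : TY a9b := by
  refine TY_of ?_ ?_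
  · have h := Elts.sound.1 ([179, 179], []) (by decide)
    simp only [evG_cons, evG_nil, mul_one] at h
    exact h
  · have h := Elts.sound.1 ([179, 282, 179, 282], []) (by decide)
    simp only [evG_cons, evG_nil, mul_one, e_y0] at h
    exact h

theorem TY_a9c : TY a9c := by
  refine TY_of ?_ ?_
  · have h := Elts.sound.1 ([193, 193], []) (by decide)
    simp only [evG_cons, evG_nil, mul_one] at h
    exact h
  · have h := Elts.sound.1 ([193, 282, 193, 282], []) (by decide)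
    simp only [evG_cons, evG_nil, mul_one, e_y0] at h
    exact h

theorem set3 (hcard : Nat.card {t // TY t} ≤ 10296) {t : Cfsg.Spor.J4} (ht : TY t) (h3 : (v3 * t) ^ 3 = 1) :
    ∃ c, c * y0 = y0 * c ∧ c * v3 = v3 * c ∧ (c * t * c⁻¹ = a3) := by
  obtain ⟨L', hL', k3, k4, k5, k6, k7, k8, k9⟩ := FiveTree.sound.2
  have hv : getG LF 424 = v3 := (gF (j := 424) (k := 270) (by norm_num)).trans e_v3
  refine sols (P := fun x => x = a3) (gn' := rt3) (gn := gn3) (tr := tr3) hL' k3 hv ?_ (by decide +kernel)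
    (by decide +kernel) ?_ ?_ hcard ht fun M hM htst => (tst_sound hM htst ht.1).2.2.1 h3
  · intro q hq
    have h : ((esT tr3 ++ esG 424 gn3).all fun q => esF.contains q) = true := by decide +kernel
    exact List.contains_iff_mem.1 (List.all_eq_true.1 h q hq)
  · simp only [rt3, List.forall_mem_cons, List.not_mem_nil, false_imp_iff, implies_true, and_true]
    exact ((gF (j := 389) (k := 235) (by norm_num)).trans e_a3)
  · intro x hx; rw [hx]; exact TY_a3

theorem set4 (hcard : Nat.card {t // TY t} ≤ 10296) {t : Cfsg.Spor.J4} (ht : TY t) (h3 : (v4 * t) ^ 3 = 1) :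
    ∃ c, c * y0 = y0 * c ∧ c * v4 = v4 * c ∧ (c * t * c⁻¹ = a4) := by
  obtain ⟨L', hL', k3, k4, k5, k6, k7, k8, k9⟩ := FiveTree.sound.2
  have hv : getG LF 423 = v4 := (gF (j := 423) (k := 269) (by norm_num)).trans e_v4
  refine sols (P := fun x => x = a4) (gn' := rt4) (gn := gn4) (tr := tr4) hL' k4 hv ?_ (by decide +kernel)
    (by decide +kernel) ?_ ?_ hcard ht fun M hM htst => (tst_sound hM htst ht.1).2.2.2.1 h3
  · intro q hq
    have h : ((esT tr4 ++ esG 423 gn4).all fun q => esF.contains q) = true := by decide +kernel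
    exact List.contains_iff_mem.1 (List.all_eq_true.1 h q hq)
  · simp only [rt4, List.forall_mem_cons, List.not_mem_nil, false_imp_iff, implies_true, and_true]
    exact ((gF (j := 382) (k := 228) (by norm_num)).trans e_a4)
  · intro x hx; rw [hx]; exact TY_a4

theorem set5 (hcard : Nat.card {t // TY t} ≤ 10296) {t : Cfsg.Spor.J4} (ht : TY t) (h3 : (v5 * t) ^ 3 = 1) :
    ∃ c, c * y0 = y0 * c ∧ c * v5 = v5 * c ∧ (c * t * c⁻¹ = a5) := by
  obtain ⟨L', hL', k3, k4, k5, k6, k7, k8, k9⟩ := FiveTree.sound.2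
  have hv : getG LF 422 = v5 := (gF (j := 422) (k := 268) (by norm_num)).trans e_v5
  refine sols (P := fun x => x = a5) (gn' := rt5) (gn := gn5) (tr := tr5) hL' k5 hv ?_ (by decide +kernel)
    (by decide +kernel) ?_ ?_ hcard ht fun M hM htst => (tst_sound hM htst ht.1).2.2.2.2.1 h3
  · intro q hq
    have h : ((esT tr5 ++ esG 422 gn5).all fun q => esF.contains q) = true := by decide +kernel
    exact List.contains_iff_mem.1 (List.all_eq_true.1 h q hq)
  · simp only [rt5, List.forall_mem_cons, List.not_mem_nil, false_imp_iff, implies_true, and_true]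
    exact ((gF (j := 375) (k := 221) (by norm_num)).trans e_a5)
  · intro x hx; rw [hx]; exact TY_a5

theorem set6 (hcard : Nat.card {t // TY t} ≤ 10296) {t : Cfsg.Spor.J4} (ht : TY t) (h3 : (v6 * t) ^ 3 = 1) :
    ∃ c, c * y0 = y0 * c ∧ c * v6 = v6 * c ∧ (c * t * c⁻¹ = a6) := by
  obtain ⟨L', hL', k3, k4, k5, k6, k7, k8, k9⟩ := FiveTree.sound.2
  have hv : getG LF 421 = v6 := (gF (j := 421) (k := 267) (by norm_num)).trans e_v6
  refine sols (P := fun x => x = a6) (gn' := rt6) (gn := gn6) (tr := tr6) hL' k6 hv ?_ (by decide +kernel)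
    (by decide +kernel) ?_ ?_ hcard ht fun M hM htst => (tst_sound hM htst ht.1).2.2.2.2.2.1 h3
  · intro q hq
    have h : ((esT tr6 ++ esG 421 gn6).all fun q => esF.contains q) = true := by decide +kernel
    exact List.contains_iff_mem.1 (List.all_eq_true.1 h q hq)
  · simp only [rt6, List.forall_mem_cons, List.not_mem_nil, false_imp_iff, implies_true, and_true]
    exact ((gF (j := 363) (k := 209) (by norm_num)).trans e_a6)
  · intro x hx; rw [hx]; exact TY_a6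

theorem set7 (hcard : Nat.card {t // TY t} ≤ 10296) {t : Cfsg.Spor.J4} (ht : TY t) (h3 : (v7 * t) ^ 3 = 1) :
    ∃ c, c * y0 = y0 * c ∧ c * v7 = v7 * c ∧ (c * t * c⁻¹ = a7a ∨ c * t * c⁻¹ = a7b) := by
  obtain ⟨L', hL', k3, k4, k5, k6, k7, k8, k9⟩ := FiveTree.sound.2
  have hv : getG LF 420 = v7 := (gF (j := 420) (k := 266) (by norm_num)).trans e_v7
  refine sols (P := fun x => x = a7a ∨ x = a7b) (gn' := rt7) (gn := gn7) (tr := tr7) hL' k7 hv ?_ (by decide +kernel)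
    (by decide +kernel) ?_ ?_ hcard ht fun M hM htst => (tst_sound hM htst ht.1).2.2.2.2.2.2.1 h3
  · intro q hq
    have h : ((esT tr7 ++ esG 420 gn7).all fun q => esF.contains q) = true := by decide +kernel
    exact List.contains_iff_mem.1 (List.all_eq_true.1 h q hq)
  · simp only [rt7, List.forall_mem_cons, List.not_mem_nil, false_imp_iff, implies_true, and_true]
    exact ⟨Or.inl ((gF (j := 360) (k := 206) (by norm_num)).trans e_a7a), Or.inr ((gF (j := 358) (k := 204) (by norm_num)).trans e_a7b)⟩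
  · rintro x (hx | hx)
    · rw [hx]; exact TY_a7a
    · rw [hx]; exact TY_a7b

theorem set8 (hcard : Nat.card {t // TY t} ≤ 10296) {t : Cfsg.Spor.J4} (ht : TY t) (h3 : (v8 * t) ^ 3 = 1) :
    ∃ c, c * y0 = y0 * c ∧ c * v8 = v8 * c ∧ (c * t * c⁻¹ = a8) := by
  obtain ⟨L', hL', k3, k4, k5, k6, k7, k8, k9⟩ := FiveTree.sound.2
  have hv : getG LF 419 = v8 := (gF (j := 419) (k := 265) (by norm_num)).trans e_v8
  refine sols (P := fun x => x = a8) (gn' := rt8) (gn := gn8) (tr := tr8) hL' k8 hv ?_ (by decide +kernel)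
    (by decide +kernel) ?_ ?_ hcard ht fun M hM htst => (tst_sound hM htst ht.1).2.2.2.2.2.2.2.1 h3
  · intro q hq
    have h : ((esT tr8 ++ esG 419 gn8).all fun q => esF.contains q) = true := by decide +kernel
    exact List.contains_iff_mem.1 (List.all_eq_true.1 h q hq)
  · simp only [rt8, List.forall_mem_cons, List.not_mem_nil, false_imp_iff, implies_true, and_true]
    exact ((gF (j := 347) (k := 193) (by norm_num)).trans e_a8)
  · intro x hx; rw [hx]; exact TY_a8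

theorem set9 (hcard : Nat.card {t // TY t} ≤ 10296) {t : Cfsg.Spor.J4} (ht : TY t) (h3 : (v9 * t) ^ 3 = 1) :
    ∃ c, c * y0 = y0 * c ∧ c * v9 = v9 * c ∧ (c * t * c⁻¹ = a9a ∨ c * t * c⁻¹ = a9b ∨ c * t * c⁻¹ = a9c) := by
  obtain ⟨L', hL', k3, k4, k5, k6, k7, k8, k9⟩ := FiveTree.sound.2
  have hv : getG LF 418 = v9 := (gF (j := 418) (k := 264) (by norm_num)).trans e_v9
  refine sols (P := fun x => x = a9a ∨ x = a9b ∨ x = a9c) (gn' := rt9) (gn := gn9) (tr := tr9) hL' k9 hv ?_ (by decide +kernel)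
    (by decide +kernel) ?_ ?_ hcard ht fun M hM htst => (tst_sound hM htst ht.1).2.2.2.2.2.2.2.2 h3
  · intro q hq
    have h : ((esT tr9 ++ esG 418 gn9).all fun q => esF.contains q) = true := by decide +kernel
    exact List.contains_iff_mem.1 (List.all_eq_true.1 h q hq)
  · simp only [rt9, List.forall_mem_cons, List.not_mem_nil, false_imp_iff, implies_true, and_true]
    exact ⟨Or.inl ((gF (j := 338) (k := 184) (by norm_num)).trans e_a9a), Or.inr (Or.inl ((gF (j := 333) (k := 179) (by norm_num)).trans e_a9b)), Or.inr (Or.inr ((gF (j := 347) (k := 193) (by norm_num)).trans e_a9c))⟩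
  · rintro x (hx | hx | hx)
    · rw [hx]; exact TY_a9a
    · rw [hx]; exact TY_a9b
    · rw [hx]; exact TY_a9c

theorem set1 (hcard : Nat.card {t // TY t} ≤ 10296) {t : Cfsg.Spor.J4} (ht : TY t) (h3 : (v1 * t) ^ 3 = 1) :
    False := by
  obtain ⟨M, hM, htst⟩ := all_tst hcard ht
  exact absurd ((tst_sound hM htst ht.1).1 h3) List.not_mem_nil

theorem set2 (hcard : Nat.card {t // TY t} ≤ 10296) {t : Cfsg.Spor.J4} (ht : TY t) (h3 : (v2 * t) ^ 3 = 1) :
    False := by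
  obtain ⟨M, hM, htst⟩ := all_tst hcard ht
  exact absurd ((tst_sound hM htst ht.1).2.1 h3) List.not_mem_nil

/-- the classification of the pairs `(y, v)` generating an `A4` -/
def E2 : Prop := ∀ y v : Cfsg.Spor.J4, T4 y v → ∃ g, g * y * g⁻¹ = y0 ∧
  (g * v * g⁻¹ = v1 ∨ g * v * g⁻¹ = v2 ∨ g * v * g⁻¹ = v3 ∨ g * v * g⁻¹ = v4 ∨ g * v * g⁻¹ = v5 ∨
    g * v * g⁻¹ = v6 ∨ g * v * g⁻¹ = v7 ∨ g * v * g⁻¹ = v8 ∨ g * v * g⁻¹ = v9)

theorem TY_cj {g y a : Cfsg.Spor.J4} (hg : g * y * g⁻¹ = y0) (h1 : a * a = 1) (h2 : a * y * a⁻¹ = y⁻¹) :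
    TY (g * a * g⁻¹) := by
  constructor
  · have : g * a * g⁻¹ * (g * a * g⁻¹) = g * (a * a) * g⁻¹ := by group
    rw [this, h1, mul_one, mul_inv_cancel]
  · rw [← hg]
    have : g * a * g⁻¹ * (g * y * g⁻¹) * (g * a * g⁻¹)⁻¹ = g * (a * y * a⁻¹) * g⁻¹ := by group
    rw [this, h2]
    group

theorem cube_cj {g v a w : Cfsg.Spor.J4} (hg : g * v * g⁻¹ = w) (h : (v * a) ^ 3 = 1) :
    (w * (g * a * g⁻¹)) ^ 3 = 1 := by
  have : w * (g * a * g⁻¹) = g * (v * a) * g⁻¹ := by rw [← hg]; group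
  rw [this, conj_pow, h, mul_one, mul_inv_cancel]

theorem fin_cj {c g y v a w x : Cfsg.Spor.J4} (hg : g * y * g⁻¹ = y0) (hgv : g * v * g⁻¹ = w) (hc : c * y0 = y0 * c)
    (hcw : c * w = w * c) (hx : c * (g * a * g⁻¹) * c⁻¹ = x) :
    c * g * y * (c * g)⁻¹ = y0 ∧ c * g * v * (c * g)⁻¹ = w ∧ c * g * a * (c * g)⁻¹ = x := by
  refine ⟨?_, ?_, ?_⟩
  · have : c * g * y * (c * g)⁻¹ = c * (g * y * g⁻¹) * c⁻¹ := by group
    rw [this, hg, hc, mul_inv_cancel_right]
  · have : c * g * v * (c * g)⁻¹ = c * (g * v * g⁻¹) * c⁻¹ := by group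
    rw [this, hgv, hcw, mul_inv_cancel_right]
  · rw [← hx]; group

/-- **The ten classes.** -/
theorem five (hcard : Nat.card {t // TY t} ≤ 10296) (hE : E2) {y v a : Cfsg.Spor.J4} (h : T5 y v a) :
    ∃ g, g * y * g⁻¹ = y0 ∧ (
      (g * v * g⁻¹ = v3 ∧ g * a * g⁻¹ = a3) ∨
      (g * v * g⁻¹ = v4 ∧ g * a * g⁻¹ = a4) ∨
      (g * v * g⁻¹ = v5 ∧ g * a * g⁻¹ = a5) ∨
      (g * v * g⁻¹ = v6 ∧ g * a * g⁻¹ = a6) ∨
      (g * v * g⁻¹ = v7 ∧ g * a * g⁻¹ = a7a) ∨
      (g * v * g⁻¹ = v7 ∧ g * a * g⁻¹ = a7b) ∨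
      (g * v * g⁻¹ = v8 ∧ g * a * g⁻¹ = a8) ∨
      (g * v * g⁻¹ = v9 ∧ g * a * g⁻¹ = a9a) ∨
      (g * v * g⁻¹ = v9 ∧ g * a * g⁻¹ = a9b) ∨
      (g * v * g⁻¹ = v9 ∧ g * a * g⁻¹ = a9c)) := by
  obtain ⟨g, hg, hv⟩ := hE y v h.toT4
  have hT := TY_cj hg h.asq h.ainv
  rcases hv with hv | hv | hv | hv | hv | hv | hv | hv | hv
  · exact (set1 hcard hT (cube_cj hv h.abr)).elim
  · exact (set2 hcard hT (cube_cj hv h.abr)).elim
  · obtain ⟨c, h1, h2, hc⟩ := set3 hcard hT (cube_cj hv h.abr)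
    obtain ⟨h3, h4, h5⟩ := fin_cj hg hv h1 h2 hc
    exact ⟨c * g, h3, Or.inl ⟨h4, h5⟩⟩
  · obtain ⟨c, h1, h2, hc⟩ := set4 hcard hT (cube_cj hv h.abr)
    obtain ⟨h3, h4, h5⟩ := fin_cj hg hv h1 h2 hc
    exact ⟨c * g, h3, Or.inr (Or.inl ⟨h4, h5⟩)⟩
  · obtain ⟨c, h1, h2, hc⟩ := set5 hcard hT (cube_cj hv h.abr)
    obtain ⟨h3, h4, h5⟩ := fin_cj hg hv h1 h2 hc
    exact ⟨c * g, h3, Or.inr (Or.inr (Or.inl ⟨h4, h5⟩))⟩
  · obtain ⟨c, h1, h2, hc⟩ := set6 hcard hT (cube_cj hv h.abr)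
    obtain ⟨h3, h4, h5⟩ := fin_cj hg hv h1 h2 hc
    exact ⟨c * g, h3, Or.inr (Or.inr (Or.inr (Or.inl ⟨h4, h5⟩)))⟩
  · obtain ⟨c, h1, h2, (hc | hc)⟩ := set7 hcard hT (cube_cj hv h.abr)
    · obtain ⟨h3, h4, h5⟩ := fin_cj hg hv h1 h2 hc
      exact ⟨c * g, h3, Or.inr (Or.inr (Or.inr (Or.inr (Or.inl ⟨h4, h5⟩))))⟩
    · obtain ⟨h3, h4, h5⟩ := fin_cj hg hv h1 h2 hc
      exact ⟨c * g, h3, Or.inr (Or.inr (Or.inr (Or.inr (Or.inr (Or.inl ⟨h4, h5⟩)))))⟩
  · obtain ⟨c, h1, h2, hc⟩ := set8 hcard hT (cube_cj hv h.abr)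
    obtain ⟨h3, h4, h5⟩ := fin_cj hg hv h1 h2 hc
    exact ⟨c * g, h3, Or.inr (Or.inr (Or.inr (Or.inr (Or.inr (Or.inr (Or.inl ⟨h4, h5⟩))))))⟩
  · obtain ⟨c, h1, h2, (hc | hc | hc)⟩ := set9 hcard hT (cube_cj hv h.abr)
    · obtain ⟨h3, h4, h5⟩ := fin_cj hg hv h1 h2 hc
      exact ⟨c * g, h3, Or.inr (Or.inr (Or.inr (Or.inr (Or.inr (Or.inr (Or.inr (Or.inl ⟨h4, h5⟩)))))))⟩
    · obtain ⟨h3, h4, h5⟩ := fin_cj hg hv h1 h2 hc
      exact ⟨c * g, h3, Or.inr (Or.inr (Or.inr (Or.inr (Or.inr (Or.inr (Or.inr (Or.inr (Or.inl ⟨h4, h5⟩))))))))⟩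
    · obtain ⟨h3, h4, h5⟩ := fin_cj hg hv h1 h2 hc
      exact ⟨c * g, h3, Or.inr (Or.inr (Or.inr (Or.inr (Or.inr (Or.inr (Or.inr (Or.inr (Or.inr (⟨h4, h5⟩)))))))))⟩

end Cfsg.Agent.H878.JM.Five
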