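import Cfsg.Agent.H878.JM.E2Data
import Cfsg.Agent.H878.JM.Five
import Cfsg.Agent.H265.JM.EQ
import Cfsg.Agent.H761.JM.P
import Cfsg.Agent.H761.JM.GeoRed
import Cfsg.Agent.H825.JM.Lines
import Cfsg.Agent.H41.JM.F7
import Cfsg.Agent.H68.JM.F5

/-!
# S5580, Part III: the nine classes of `A4`-subgroups of `J4`

`e2 : E2`. `GeoRed.geo_red` (helper761): either `y` normalizes a conjugate of `V = 2^11` containing `v`
(`caseP0` of helper761 gives six classes) or `v` is of class 2B and `y v y⁻¹` is not in the conjugate of `V` containing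
`v` (`EQ.Q` of helper265 gives three classes).
-/

set_option autoImplicit false
set_option maxRecDepth 20000

open Cfsg

namespace Cfsg.Agent.H878.JM.E2

open Cfsg.Agent.Lib Cfsg.Agent.Lib.F2MatGroup
open Cfsg.Agent.J4.Rep112 Cfsg.Agent.J4.LowerData Cfsg.Agent.J4.Beta
open Cfsg.Agent.J4.Classes Cfsg.Agent.J4.ClassesData Cfsg.Agent.J4.ClassesAbs
open Cfsg.Agent.H858.VK Cfsg.Agent.H878.JM.Base Cfsg.Agent.H858.Data Cfsg.Agent.H858
open Cfsg.Agent.J4.Pres Cfsg.Agent.J4.M24Hom Cfsg.Agent.J4.Lower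
open Cfsg.Agent.J4.Nodes (wordG wordP letG)
open Cfsg.Agent.J4.Invol (EJ s d)
open Cfsg.Agent.H860.JM
open Cfsg.Agent.H761.JM (k0 k1 w0 A4 geo_red caseP0)

local notation "𝒢" => Cfsg.Spor.J4

/-- the environment -/
noncomputable def LP : List 𝒢 := runG slpP LJ

theorem map_LP : LP.map rho = runG (slpJ ++ slpP) mgens := by
  unfold LP LJ mgens
  rw [runG_append, runG_map, runG_map]

theorem soundP {a b : List ℕ} (hp : (a, b) ∈ esP) : evG LP a = evG LP b := by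
  obtain ⟨L', h', hk⟩ := run_sound codes_gens checkP
  have h'' : List.Forall₂ (Codes 112) (LP.map rho) L' := by rw [map_LP]; exact h'
  apply Cfsg.Agent.H858.VK.rho_injective
  rw [← evG_map, ← evG_map]
  exact eqs_sound h'' hk (a, b) hp

theorem slpP_length : slpP.length = 8 := by decide

theorem getG_LP (i : ℕ) : getG LP (8 + i) = getG LJ i := by
  have h := getG_runG slpP LJ i
  rwa [slpP_length] at h

theorem getG_LP' {i : ℕ} (hi : i < 11) : getG LP (27 + i) = lJ.getD i 1 := by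
  rw [show 27 + i = 8 + (19 + i) by ring, getG_LP, Cfsg.Agent.H265.JM.EQ.getG_LJ hi]

theorem evG_bp (v : ℕ) : evG LP (bw 11 27 v) = V v := by
  have h := evG_bw LP lJ 27 v (by rw [lJ_length]; exact fun i hi => getG_LP' hi)
  rwa [lJ_length] at h

theorem K0_eq : getG LP 7 = phi k0 := by
  have h1 : getG LP 7 = evG LJ (w0.map (32 + ·)) := rfl
  rw [h1, evG_shift (L' := [x, y, y⁻¹]), Cfsg.Agent.H265.JM.EQ.ev_phi (by decide)]
  · rfl
  · intro i hi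
    have h3 : i = 0 ∨ i = 1 ∨ i = 2 := by
      have : ∀ i ∈ w0, i = 0 ∨ i = 1 ∨ i = 2 := by decide
      exact this i hi
    rcases h3 with rfl | rfl | rfl <;> rfl

theorem K1_eq : getG LP 6 = phi k1 := by
  have h1 : getG LP 6 = evG (getG LP 7 :: LJ) (Cfsg.Agent.H761.JM.w1.map (33 + ·)) := rfl
  rw [h1, evG_shift (L' := [x, y, y⁻¹]), Cfsg.Agent.H265.JM.EQ.ev_phi (by decide)]
  · rfl
  · intro i hi
    have h3 : i = 0 ∨ i = 1 ∨ i = 2 := by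
      have : ∀ i ∈ Cfsg.Agent.H761.JM.w1, i = 0 ∨ i = 1 ∨ i = 2 := by decide
      exact this i hi
    rcases h3 with rfl | rfl | rfl <;> rfl

theorem ev1 (i : ℕ) : evG LP [i] = getG LP i := by rw [evG_cons, evG_nil, mul_one]
theorem ev2 (i j : ℕ) : evG LP [i, j] = getG LP i * getG LP j := by rw [evG_cons, ev1]
theorem evp (a b : List ℕ) : evG LP (a ++ b) = evG LP a * evG LP b := evG_append _ a b

theorem iy0 : getG LP 26 = y0 := getG_LP 18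
theorem iv1 : getG LP 16 = v1 := getG_LP 8
theorem iv2 : getG LP 15 = v2 := getG_LP 7
theorem iv3 : getG LP 14 = v3 := getG_LP 6
theorem iv5 : getG LP 12 = v5 := getG_LP 4
theorem iv7 : getG LP 10 = v7 := getG_LP 2
theorem iv8 : getG LP 9 = v8 := getG_LP 1

/-- the equation for `y0` -/
theorem ey {h k : ℕ} {a : 𝒢} (e : ([h, 26], [k, h]) ∈ esP) (hk : getG LP k = a) :
    getG LP h * y0 = a * getG LP h := by
  have h := soundP e
  rwa [ev2, ev2, iy0, hk] at h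

/-- the equation for `v` -/
theorem ev {h k r : ℕ} {a : 𝒢} (e : ([h, k], bw 11 27 r ++ [h]) ∈ esP) (hk : getG LP k = a) :
    getG LP h * a = V r * getG LP h := by
  have h := soundP e
  rwa [ev2, evp, evG_bp, ev1, hk] at h

/-- transport back to the standard pair -/
theorem back {y v k h v' a b : 𝒢} (h1 : k * y * k⁻¹ = b) (h2 : k * v * k⁻¹ = a) (e1 : h * y0 = b * h)
    (e2 : h * v' = a * h) :
    (h⁻¹ * k) * y * (h⁻¹ * k)⁻¹ = y0 ∧ (h⁻¹ * k) * v * (h⁻¹ * k)⁻¹ = v' := by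
  constructor
  · calc (h⁻¹ * k) * y * (h⁻¹ * k)⁻¹ = h⁻¹ * ((k * y * k⁻¹) * h) := by group
      _ = y0 := by rw [h1, ← e1, inv_mul_cancel_left]
  · calc (h⁻¹ * k) * v * (h⁻¹ * k)⁻¹ = h⁻¹ * ((k * v * k⁻¹) * h) := by group
      _ = v' := by rw [h2, ← e2, inv_mul_cancel_left]

/-- **(P)** -/
theorem P {v y : 𝒢} (hv : v ∈ EJ) (hv1 : v ≠ 1)
    (hyN : y ∈ Subgroup.normalizer (EJ : Set 𝒢)) (h3 : y * y * y = 1) (h1 : y ≠ 1)
    (hvy : v * y * (v * y) * (v * y) = 1) :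
    ∃ g, g * y * g⁻¹ = y0 ∧ (g * v * g⁻¹ = v1 ∨ g * v * g⁻¹ = v2 ∨ g * v * g⁻¹ = v3 ∨
      g * v * g⁻¹ = v5 ∨ g * v * g⁻¹ = v7 ∨ g * v * g⁻¹ = v8) := by
  obtain ⟨g, ⟨hg, r, hr, hgr⟩ | ⟨hg, r, hr, hgr⟩⟩ := caseP0 hv hv1 hyN h3 h1 hvy
  · have hr' : r = 972 ∨ r = 1661 := by
      rcases List.mem_cons.1 hr with h | h
      · exact Or.inl h
      · exact Or.inr (List.mem_singleton.1 h)
    rcases hr' with rfl | rfl
    · obtain ⟨b1, b2⟩ := back hg hgr (ey (h := 5) (k := 7) (by decide) K0_eq)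
        (ev (h := 5) (k := 16) (r := 972) (by decide) iv1)
      exact ⟨_, b1, Or.inl b2⟩
    · obtain ⟨b1, b2⟩ := back hg hgr (ey (h := 4) (k := 7) (by decide) K0_eq)
        (ev (h := 4) (k := 15) (r := 1661) (by decide) iv2)
      exact ⟨_, b1, Or.inr (Or.inl b2)⟩
  · have hr' : r = 6 ∨ r = 226 ∨ r = 51 ∨ r = 170 := by
      have h : ∀ r ∈ Cfsg.Agent.H761.JM.R1, r = 6 ∨ r = 226 ∨ r = 51 ∨ r = 170 := by decide
      exact h r hr
    rcases hr' with rfl | rfl | rfl | rfl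
    · obtain ⟨b1, b2⟩ := back hg hgr (ey (h := 1) (k := 6) (by decide) K1_eq)
        (ev (h := 1) (k := 10) (r := 6) (by decide) iv7)
      exact ⟨_, b1, Or.inr (Or.inr (Or.inr (Or.inr (Or.inl b2))))⟩
    · obtain ⟨b1, b2⟩ := back hg hgr (ey (h := 0) (k := 6) (by decide) K1_eq)
        (ev (h := 0) (k := 9) (r := 226) (by decide) iv8)
      exact ⟨_, b1, Or.inr (Or.inr (Or.inr (Or.inr (Or.inr b2))))⟩
    · obtain ⟨b1, b2⟩ := back hg hgr (ey (h := 3) (k := 6) (by decide) K1_eq)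
        (ev (h := 3) (k := 14) (r := 51) (by decide) iv3)
      exact ⟨_, b1, Or.inr (Or.inr (Or.inl b2))⟩
    · obtain ⟨b1, b2⟩ := back hg hgr (ey (h := 2) (k := 6) (by decide) K1_eq)
        (ev (h := 2) (k := 12) (r := 170) (by decide) iv5)
      exact ⟨_, b1, Or.inr (Or.inr (Or.inr (Or.inl b2)))⟩

theorem mem_cj_iff {g x : 𝒢} {P : Subgroup 𝒢} : x ∈ cj g P ↔ g⁻¹ * x * g ∈ P := by
  constructor
  · rintro ⟨z, hz, rfl⟩
    have : g⁻¹ * (MulAut.conj g).toMonoidHom z * g = z := by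
      show g⁻¹ * (g * z * g⁻¹) * g = z
      group
    rw [this]; exact hz
  · intro h
    refine ⟨_, h, ?_⟩
    show g * (g⁻¹ * x * g) * g⁻¹ = x
    group

/-- transport of the conclusion along a conjugation -/
theorem tr {y v g w : 𝒢} {Q : 𝒢 → Prop}
    (h : ∃ k, k * (g⁻¹ * y * g) * k⁻¹ = w ∧ Q (k * (g⁻¹ * v * g) * k⁻¹)) :
    ∃ k, k * y * k⁻¹ = w ∧ Q (k * v * k⁻¹) := by
  obtain ⟨k, h1, h2⟩ := h
  have e : ∀ u : 𝒢, k * (g⁻¹ * u * g) * k⁻¹ = (k * g⁻¹) * u * (k * g⁻¹)⁻¹ := fun u => by group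
  rw [e] at h1 h2
  exact ⟨_, h1, h2⟩

theorem cube_tr {g v y : 𝒢} (h : v * y * (v * y) * (v * y) = 1) :
    g⁻¹ * v * g * (g⁻¹ * y * g) * (g⁻¹ * v * g * (g⁻¹ * y * g)) * (g⁻¹ * v * g * (g⁻¹ * y * g)) = 1 := by
  have : g⁻¹ * v * g * (g⁻¹ * y * g) * (g⁻¹ * v * g * (g⁻¹ * y * g)) * (g⁻¹ * v * g * (g⁻¹ * y * g)) =
      g⁻¹ * (v * y * (v * y) * (v * y)) * g := by group
  rw [this, h]; group

theorem three_tr {g y : 𝒢} (h : y * y * y = 1) :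
    g⁻¹ * y * g * (g⁻¹ * y * g) * (g⁻¹ * y * g) = 1 := by
  have : g⁻¹ * y * g * (g⁻¹ * y * g) * (g⁻¹ * y * g) = g⁻¹ * (y * y * y) * g := by group
  rw [this, h]; group

theorem ne_tr {g y : 𝒢} (h : y ≠ 1) : g⁻¹ * y * g ≠ 1 := by
  intro e
  apply h
  have : y = g * (g⁻¹ * y * g) * g⁻¹ := by group
  rw [this, e]; group

/-- `u` is one of `v1, …, v9` -/
def Nine (u : 𝒢) : Prop := u = v1 ∨ u = v2 ∨ u = v3 ∨ u = v4 ∨ u = v5 ∨ u = v6 ∨ u = v7 ∨ u = v8 ∨ u = v9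

/-- **The nine classes of `A4`-subgroups.** -/
theorem e2 : Five.E2 := by
  rintro y v ⟨hy1, hy3, hv1, hv2, hbr⟩
  have hvy : v * y * (v * y) * (v * y) = 1 := by rw [← hbr, pow_succ, pow_two]
  have h5 : F5 geo := Cfsg.Agent.H68.JM.f5
  rcases geo_red f1 f4 h5 (Cfsg.Agent.H825.JM.f6 h5) Cfsg.Agent.H41.JM.f7 ⟨hv1, hv2, hy3, hvy⟩ with
    ⟨_, ⟨g, rfl⟩, hvP, hyP⟩ | ⟨hB, hno⟩
  · apply tr (g := g) (Q := Nine)
    have hvE : g⁻¹ * v * g ∈ EJ := mem_cj_iff.1 hvP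
    have hyE : g⁻¹ * y * g ∈ Subgroup.normalizer (EJ : Set 𝒢) := by
      rw [Subgroup.mem_normalizer_iff] at hyP ⊢
      intro h
      have e1 := hyP (g * h * g⁻¹)
      rw [mem_cj_iff, mem_cj_iff] at e1
      have e2 : g⁻¹ * (g * h * g⁻¹) * g = h := by group
      have e3 : g⁻¹ * (y * (g * h * g⁻¹) * y⁻¹) * g = g⁻¹ * y * g * h * (g⁻¹ * y * g)⁻¹ := by group
      rw [e2, e3] at e1
      exact e1
    obtain ⟨k, h1, h | h | h | h | h | h⟩ := P hvE (ne_tr hv1) hyE (three_tr hy3) (ne_tr hy1) (cube_tr hvy)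
    · exact ⟨k, h1, Or.inl h⟩
    · exact ⟨k, h1, Or.inr (Or.inl h)⟩
    · exact ⟨k, h1, Or.inr (Or.inr (Or.inl h))⟩
    · exact ⟨k, h1, Or.inr (Or.inr (Or.inr (Or.inr (Or.inl h))))⟩
    · exact ⟨k, h1, Or.inr (Or.inr (Or.inr (Or.inr (Or.inr (Or.inr (Or.inl h))))))⟩
    · exact ⟨k, h1, Or.inr (Or.inr (Or.inr (Or.inr (Or.inr (Or.inr (Or.inr (Or.inl h)))))))⟩
  · obtain ⟨_, ⟨g, rfl⟩, hvP, -, -⟩ := f4 v hB
    apply tr (g := g) (Q := Nine)
    have hvE : g⁻¹ * v * g ∈ EJ := mem_cj_iff.1 hvP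
    have hB' : IsConj d (g⁻¹ * v * g) := by
      have h : IsConj v (g⁻¹ * v * g) := isConj_iff.2 ⟨g⁻¹, by group⟩
      exact IsConj.trans hB h
    have hn : g⁻¹ * y * g * (g⁻¹ * v * g) * (g⁻¹ * y * g)⁻¹ ∉ EJ := by
      intro h
      apply hno _ ⟨g, rfl⟩ hvP
      rw [mem_cj_iff]
      have e3 : g⁻¹ * (y * v * y⁻¹) * g = g⁻¹ * y * g * (g⁻¹ * v * g) * (g⁻¹ * y * g)⁻¹ := by group
      rw [e3]; exact h
    obtain ⟨k, h1, h | h | h⟩ := Cfsg.Agent.H265.JM.EQ.Q hB' hvE (three_tr hy3) (cube_tr hvy) hn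
    · exact ⟨k, h1, Or.inr (Or.inr (Or.inr (Or.inl h)))⟩
    · exact ⟨k, h1, Or.inr (Or.inr (Or.inr (Or.inr (Or.inr (Or.inl h)))))⟩
    · exact ⟨k, h1, Or.inr (Or.inr (Or.inr (Or.inr (Or.inr (Or.inr (Or.inr (Or.inr h)))))))⟩

end Cfsg.Agent.H878.JM.E2
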