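import Cfsg.Agent.H878.JM.Base
import Cfsg.Agent.J4.Classes

/-!
# Elements for the rows `A5, …, A8` (Part III of S5580)

The environment `LE` (newest first): 264 new elements, then `LJ` (`getE_old`).
The ten triples `(y0, v i, a)` (classes of `A5`), with their numbers in `LE` (all `b`, `tau` invert `y0` and commute
with `v i`):
  `a3` (class 3) = 235; b with (a b)^3 = 1: [221, 171, 163, 154, 150, 138]; tau (commuting with a): []; centralizing element of (y,v,a): 3, of (y,v,a,b): [3, 3, 2, 3, 3, 2]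
  `a4` (class 4) = 228; b with (a b)^3 = 1: [132, 119]; tau (commuting with a): []; centralizing element of (y,v,a): 3, of (y,v,a,b): [3, 3]
  `a5` (class 5) = 221; b with (a b)^3 = 1: [117, 108, 101, 94, 86, 78, 66]; tau (commuting with a): [65, 64]; centralizing element of (y,v,a): 2, of (y,v,a,b): [None, None, 2, None, None, 2, 2]
  `a6` (class 6) = 209; b with (a b)^3 = 1: [54]; tau (commuting with a): [45, 36]; centralizing element of (y,v,a): 2, of (y,v,a,b): [2]
  `a7a` (class 7) = 206; b with (a b)^3 = 1: [31, 26, 18]; tau (commuting with a): [17]; centralizing element of (y,v,a): None, of (y,v,a,b): [None, None, None]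
  `a7b` (class 7) = 204; b with (a b)^3 = 1: []; tau (commuting with a): []; centralizing element of (y,v,a): 1, of (y,v,a,b): []
  `a8` (class 8) = 193; b with (a b)^3 = 1: []; tau (commuting with a): []; centralizing element of (y,v,a): 1, of (y,v,a,b): []
  `a9a` (class 9) = 184; b with (a b)^3 = 1: []; tau (commuting with a): [4]; centralizing element of (y,v,a): None, of (y,v,a,b): []
  `a9b` (class 9) = 179; b with (a b)^3 = 1: []; tau (commuting with a): []; centralizing element of (y,v,a): 0, of (y,v,a,b): []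
  `a9c` (class 9) = 193; b with (a b)^3 = 1: []; tau (commuting with a): []; centralizing element of (y,v,a): 0, of (y,v,a,b): []
(Data: tools/h878/elts.json, written by tools/h878/p9.py, genelts.py.)
-/

set_option autoImplicit false

open Cfsg

namespace Cfsg.Agent.H878.JM.Elts

open Cfsg.Agent.Lib Cfsg.Agent.Lib.F2MatGroup
open Cfsg.Agent.J4.Rep112 Cfsg.Agent.J4.LowerData
open Cfsg.Agent.H858.VK
open Cfsg.Agent.H878.JM.Base

/-- the program -/
def slpE : List (List ℕ) := [
  [19, 20, 21, 22, 23, 24, 25, 26],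
  [34, 33, 34, 33, 35, 33, 35, 33, 34, 33, 35, 33, 34, 33, 34, 33, 34, 33, 34, 33, 35, 33, 35, 33, 35, 33, 35, 33, 34, 33, 34, 33, 35, 33, 35, 33, 35, 33, 34, 33, 35, 33, 35, 33, 35, 33, 35, 33, 34],
  [0, 0],
  [35, 37, 35, 36, 35, 37, 35, 37, 35, 36, 35, 36, 35, 36, 35, 37, 35, 36, 35, 36, 35, 37, 35, 37, 35, 37, 35, 36, 35, 37, 35, 36, 35, 36, 35, 36, 35, 37, 35, 36, 35, 36, 35, 37, 35, 37, 35, 37, 35, 37],
  [23, 24, 25, 26, 27, 28, 29, 30],
  [37, 39, 37, 38, 37, 39, 37, 39, 37, 38, 37, 38, 37, 38, 37, 39, 37, 38, 37, 38, 37, 39, 37, 39, 37, 39, 37, 38, 37, 39, 37, 38, 37, 38, 37, 38, 37, 39, 37, 38, 37, 38, 37, 39, 37, 39, 37, 39, 37, 39],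
  [38, 39, 38, 40, 38, 40, 38, 39, 38, 39, 38, 40, 38, 39, 38, 39, 38, 39, 38, 39, 38, 40, 38, 39, 38, 40, 38, 40, 38, 40, 38, 39, 38, 40, 38, 40, 38, 40, 38, 39, 38, 39, 38, 39, 38, 39, 38, 39, 38, 39, 38, 39],
  [39, 40, 39, 40, 39, 41, 39, 41, 39, 41, 39, 40, 39, 40, 39, 41, 39, 41, 39, 41, 39, 40, 39, 41, 39, 41, 39, 41, 39, 41, 39, 41, 39, 41, 39, 40, 39, 41, 39, 41, 39, 40, 39, 41, 39, 40, 39],
  [28, 30, 31, 33],
  [22, 21, 23, 22, 21, 29, 31, 37, 41, 42, 41, 43, 41, 43, 41, 42, 41, 42, 41, 43, 41, 42, 41, 42, 41, 42, 41, 43, 41, 42, 41, 43, 41, 43, 41, 43, 41, 42, 41, 42, 41, 43, 41, 43, 41, 43, 41, 42, 41, 42, 41, 42, 41, 43, 21, 22, 23, 21, 22],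
  [0, 0],
  [31, 35, 38],
  [32, 34, 35, 37],
  [26, 25, 27, 26, 25, 45, 47, 45, 46, 45, 47, 45, 47, 45, 46, 45, 47, 45, 47, 45, 47, 45, 46, 45, 46, 45, 47, 45, 47, 45, 47, 45, 46, 45, 47, 45, 47, 45, 47, 45, 47, 45, 47, 45, 47, 45, 46, 45, 47, 25, 26, 27, 25, 26],
  [29, 46, 47, 46, 48, 46, 48, 46, 48, 46, 47, 46, 48, 46, 47, 46, 47, 46, 47, 46, 48, 46, 47, 46, 48, 46, 47, 46, 48, 46, 47, 46, 48, 46, 47, 46, 48, 46, 48, 46, 48, 46, 47, 46, 48, 46, 47, 46, 47, 46, 47, 46, 47, 46, 47, 46, 30],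
  [0, 0],
  [31, 37, 38, 39, 40, 44, 32],
  [32, 36, 38, 41, 43, 51, 49, 51, 49, 50, 49, 51, 49, 50, 49, 50, 49, 51, 49, 51, 49, 51, 49, 50, 49, 51, 49, 50, 49, 51, 49, 50, 49, 50, 49, 50, 49, 51, 49, 51, 49, 50, 49, 51, 49, 50, 49, 50, 49, 51, 49, 50, 49, 33],
  [0, 0],
  [34, 51, 53, 51, 52, 51, 52, 51, 53, 51, 52, 51, 53, 51, 52, 51, 52, 51, 52, 51, 52, 51, 52, 51, 53, 51, 53, 51, 53, 51, 53, 51, 53, 51, 52, 51, 53, 51, 53, 51, 52, 51, 52, 51, 52, 51, 52, 51, 52, 51, 52, 51, 53, 51, 53, 51, 35],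
  [0, 0],
  [35, 32, 35],
  [34, 0, 34],
  [37, 0, 37],
  [36, 0, 36],
  [38, 0, 38],
  [40, 0, 40],
  [40, 0, 40],
  [40, 0, 40],
  [42, 38, 42],
  [42, 0, 42],
  [44, 0, 44],
  [44, 0, 44],
  [46, 0, 46],
  [46, 0, 46],
  [49, 0, 49],
  [49, 14, 49],
  [51, 0, 51],
  [51, 0, 51],
  [51, 0, 51],
  [53, 0, 53],
  [55, 0, 55],
  [54, 0, 54],
  [57, 52, 57],
  [57, 0, 57],
  [59, 0, 59],
  [59, 0, 59],
  [61, 0, 61],
  [60, 0, 60],
  [63, 0, 63],
  [63, 0, 63],
  [63, 0, 63],
  [65, 0, 65],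
  [67, 0, 67],
  [66, 0, 66],
  [67, 66, 67],
  [70, 0, 70],
  [69, 0, 69],
  [72, 30, 72],
  [71, 0, 71],
  [72, 70, 72],
  [75, 0, 75],
  [75, 0, 75],
  [77, 0, 77],
  [77, 0, 77],
  [77, 0, 77],
  [79, 0, 79],
  [79, 0, 79],
  [82, 0, 82],
  [82, 0, 82],
  [84, 0, 84],
  [85, 41, 85],
  [84, 0, 84],
  [87, 0, 87],
  [87, 0, 87],
  [89, 0, 89],
  [89, 0, 89],
  [89, 0, 89],
  [91, 0, 91],
  [91, 0, 91],
  [92, 16, 92],
  [94, 0, 94],
  [94, 0, 94],
  [96, 0, 96],
  [96, 0, 96],
  [97, 48, 97],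
  [100, 0, 100],
  [100, 0, 100],
  [102, 0, 102],
  [101, 0, 101],
  [103, 0, 103],
  [105, 0, 105],
  [104, 0, 104],
  [106, 69, 106],
  [106, 0, 106],
  [109, 0, 109],
  [109, 0, 109],
  [111, 0, 111],
  [110, 0, 110],
  [112, 0, 112],
  [112, 0, 112],
  [114, 44, 114],
  [116, 0, 116],
  [115, 0, 115],
  [118, 0, 118],
  [117, 0, 117],
  [119, 0, 119],
  [119, 0, 119],
  [121, 0, 121],
  [121, 0, 121],
  [124, 11, 124],
  [123, 0, 123],
  [126, 0, 126],
  [126, 0, 126],
  [127, 58, 127],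
  [127, 0, 127],
  [129, 0, 129],
  [129, 0, 129],
  [132, 0, 132],
  [131, 0, 131],
  [134, 0, 134],
  [134, 0, 134],
  [136, 0, 136],
  [136, 0, 136],
  [136, 0, 136],
  [138, 0, 138],
  [140, 95, 140],
  [140, 0, 140],
  [140, 0, 140],
  [142, 0, 142],
  [142, 0, 142],
  [145, 0, 145],
  [144, 141, 144],
  [147, 0, 147],
  [147, 0, 147],
  [147, 0, 147],
  [149, 0, 149],
  [151, 0, 151],
  [150, 0, 150],
  [153, 0, 153],
  [152, 0, 152],
  [155, 0, 155],
  [155, 0, 155],
  [157, 0, 157],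
  [156, 0, 156],
  [158, 25, 158],
  [160, 0, 160],
  [159, 109, 159],
  [162, 0, 162],
  [162, 0, 162],
  [164, 0, 164],
  [163, 0, 163],
  [165, 0, 165],
  [167, 0, 167],
  [166, 0, 166],
  [168, 0, 168],
  [168, 7, 168],
  [170, 0, 170],
  [170, 0, 170],
  [173, 0, 173],
  [173, 0, 173],
  [173, 0, 173],
  [175, 0, 175],
  [176, 68, 176],
  [176, 0, 176],
  [179, 0, 179],
  [178, 0, 178],
  [180, 0, 180],
  [182, 0, 182],
  [182, 0, 182],
  [184, 145, 184],
  [184, 0, 184],
  [186, 0, 186],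
  [186, 0, 186],
  [186, 0, 186],
  [188, 0, 188],
  [188, 0, 188],
  [190, 0, 190],
  [190, 152, 190],
  [193, 0, 193],
  [193, 0, 193],
  [195, 0, 195],
  [194, 0, 194],
  [196, 0, 196],
  [196, 0, 196],
  [198, 0, 198],
  [199, 163, 199],
  [201, 0, 201],
  [200, 0, 200],
  [202, 0, 202],
  [204, 0, 204],
  [203, 0, 203],
  [205, 0, 205],
  [207, 0, 207],
  [206, 0, 206],
  [209, 0, 209],
  [208, 0, 208],
  [210, 0, 210],
  [211, 155, 211],
  [212, 106, 212],
  [212, 155, 212],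
  [215, 0, 215],
  [214, 0, 214],
  [217, 0, 217],
  [217, 0, 217],
  [217, 0, 217],
  [220, 0, 220],
  [220, 0, 220],
  [222, 0, 222],
  [221, 0, 221],
  [224, 220, 224],
  [224, 0, 224],
  [226, 0, 226],
  [226, 0, 226],
  [226, 0, 226],
  [228, 0, 228],
  [230, 0, 230],
  [229, 0, 229],
  [231, 0, 231],
  [231, 7, 231],
  [234, 0, 234],
  [234, 0, 234],
  [236, 0, 236],
  [235, 0, 235],
  [237, 0, 237],
  [239, 0, 239],
  [238, 0, 238],
  [240, 0, 240],
  [240, 41, 240],
  [243, 0, 243],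
  [243, 0, 243],
  [243, 0, 243],
  [246, 0, 246],
  [245, 146, 245],
  [248, 0, 248],
  [248, 0, 248],
  [250, 0, 250],
  [249, 0, 249],
  [251, 135, 251],
  [251, 0, 251],
  [253, 0, 253],
  [253, 0, 253],
  [256, 0, 256],
  [256, 0, 256],
  [258, 0, 258],
  [258, 0, 258],
  [258, 13, 258],
  [260, 114, 260],
  [260, 0, 260],
  [262, 0, 262],
  [262, 0, 262],
  [265, 0, 265],
  [264, 0, 264],
  [267, 0, 267],
  [267, 0, 267],
  [269, 0, 269],
  [269, 0, 269],
  [269, 0, 269],
  [272, 0, 272],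
  [271, 0, 271],
  [280, 284, 285, 286],
  [283, 284, 285, 286, 288],
  [277, 281, 283, 286, 288, 278],
  [278, 282, 285, 286, 289, 291, 279]]

/-- equations -/
def es : List (List ℕ × List ℕ) := [
  ([263, 282], [282, 263]),
  ([263, 270], [270, 263]),
  ([263, 263], []),
  ([262, 282], [282, 262]),
  ([262, 270], [270, 262]),
  ([262, 261], []),
  ([260, 282], [282, 260]),
  ([260, 270], [270, 260]),
  ([260, 260], []),
  ([259, 282], [282, 259]),
  ([259, 269], [269, 259]),
  ([259, 259], []),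
  ([258, 282], [282, 258]),
  ([258, 269], [269, 258]),
  ([258, 258], []),
  ([257, 282], [282, 257]),
  ([257, 269], [269, 257]),
  ([257, 257], []),
  ([256, 282], [282, 256]),
  ([256, 268], [268, 256]),
  ([256, 256], []),
  ([255, 282], [282, 255]),
  ([255, 268], [268, 255]),
  ([255, 255], []),
  ([254, 282], [282, 254]),
  ([254, 268], [268, 254]),
  ([254, 253], []),
  ([252, 282], [282, 252]),
  ([252, 267], [267, 252]),
  ([252, 252], []),
  ([251, 282], [282, 251]),
  ([251, 267], [267, 251]),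
  ([251, 251], []),
  ([250, 282], [282, 250]),
  ([250, 267], [267, 250]),
  ([250, 250], []),
  ([249, 282], [282, 249]),
  ([249, 266], [266, 249]),
  ([249, 248], []),
  ([247, 282], [282, 247]),
  ([247, 266], [266, 247]),
  ([247, 247], []),
  ([246, 282], [282, 246]),
  ([246, 264], [264, 246]),
  ([246, 245], []),
  ([244, 282], [282, 244]),
  ([244, 264], [264, 244]),
  ([244, 243], []),
  ([235, 235], []),
  ([235, 282, 235, 282], []),
  ([270, 235, 270, 235, 270, 235], []),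
  ([221, 221], []),
  ([221, 282, 221, 282], []),
  ([221, 270], [270, 221]),
  ([235, 221, 235, 221, 235, 221], []),
  ([171, 171], []),
  ([171, 282, 171, 282], []),
  ([171, 270], [270, 171]),
  ([235, 171, 235, 171, 235, 171], []),
  ([163, 163], []),
  ([163, 282, 163, 282], []),
  ([163, 270], [270, 163]),
  ([235, 163, 235, 163, 235, 163], []),
  ([154, 154], []),
  ([154, 282, 154, 282], []),
  ([154, 270], [270, 154]),
  ([235, 154, 235, 154, 235, 154], []),
  ([150, 150], []),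
  ([150, 282, 150, 282], []),
  ([150, 270], [270, 150]),
  ([235, 150, 235, 150, 235, 150], []),
  ([138, 138], []),
  ([138, 282, 138, 282], []),
  ([138, 270], [270, 138]),
  ([235, 138, 235, 138, 235, 138], []),
  ([3, 282], [282, 3]),
  ([3, 270], [270, 3]),
  ([3, 235], [235, 3]),
  ([3, 221], [221, 3]),
  ([3, 171], [171, 3]),
  ([2, 282], [282, 2]),
  ([2, 270], [270, 2]),
  ([2, 235], [235, 2]),
  ([2, 163], [163, 2]),
  ([3, 154], [154, 3]),
  ([3, 150], [150, 3]),
  ([2, 138], [138, 2]),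
  ([228, 228], []),
  ([228, 282, 228, 282], []),
  ([269, 228, 269, 228, 269, 228], []),
  ([132, 132], []),
  ([132, 282, 132, 282], []),
  ([132, 269], [269, 132]),
  ([228, 132, 228, 132, 228, 132], []),
  ([119, 119], []),
  ([119, 282, 119, 282], []),
  ([119, 269], [269, 119]),
  ([228, 119, 228, 119, 228, 119], []),
  ([3, 269], [269, 3]),
  ([3, 228], [228, 3]),
  ([3, 132], [132, 3]),
  ([3, 119], [119, 3]),
  ([268, 221, 268, 221, 268, 221], []),
  ([117, 117], []),
  ([117, 282, 117, 282], []),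
  ([117, 268], [268, 117]),
  ([221, 117, 221, 117, 221, 117], []),
  ([108, 108], []),
  ([108, 282, 108, 282], []),
  ([108, 268], [268, 108]),
  ([221, 108, 221, 108, 221, 108], []),
  ([101, 101], []),
  ([101, 282, 101, 282], []),
  ([101, 268], [268, 101]),
  ([221, 101, 221, 101, 221, 101], []),
  ([94, 94], []),
  ([94, 282, 94, 282], []),
  ([94, 268], [268, 94]),
  ([221, 94, 221, 94, 221, 94], []),
  ([86, 86], []),
  ([86, 282, 86, 282], []),
  ([86, 268], [268, 86]),
  ([221, 86, 221, 86, 221, 86], []),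
  ([78, 78], []),
  ([78, 282, 78, 282], []),
  ([78, 268], [268, 78]),
  ([221, 78, 221, 78, 221, 78], []),
  ([66, 66], []),
  ([66, 282, 66, 282], []),
  ([66, 268], [268, 66]),
  ([221, 66, 221, 66, 221, 66], []),
  ([65, 65], []),
  ([65, 282, 65, 282], []),
  ([65, 268], [268, 65]),
  ([65, 221], [221, 65]),
  ([64, 64], []),
  ([64, 282, 64, 282], []),
  ([64, 268], [268, 64]),
  ([64, 221], [221, 64]),
  ([2, 268], [268, 2]),
  ([2, 221], [221, 2]),
  ([2, 101], [101, 2]),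
  ([2, 78], [78, 2]),
  ([2, 66], [66, 2]),
  ([209, 209], []),
  ([209, 282, 209, 282], []),
  ([267, 209, 267, 209, 267, 209], []),
  ([54, 54], []),
  ([54, 282, 54, 282], []),
  ([54, 267], [267, 54]),
  ([209, 54, 209, 54, 209, 54], []),
  ([45, 45], []),
  ([45, 282, 45, 282], []),
  ([45, 267], [267, 45]),
  ([45, 209], [209, 45]),
  ([36, 36], []),
  ([36, 282, 36, 282], []),
  ([36, 267], [267, 36]),
  ([36, 209], [209, 36]),
  ([2, 267], [267, 2]),
  ([2, 209], [209, 2]),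
  ([2, 54], [54, 2]),
  ([206, 206], []),
  ([206, 282, 206, 282], []),
  ([266, 206, 266, 206, 266, 206], []),
  ([31, 31], []),
  ([31, 282, 31, 282], []),
  ([31, 266], [266, 31]),
  ([206, 31, 206, 31, 206, 31], []),
  ([26, 26], []),
  ([26, 282, 26, 282], []),
  ([26, 266], [266, 26]),
  ([206, 26, 206, 26, 206, 26], []),
  ([18, 18], []),
  ([18, 282, 18, 282], []),
  ([18, 266], [266, 18]),
  ([206, 18, 206, 18, 206, 18], []),
  ([17, 17], []),
  ([17, 282, 17, 282], []),
  ([17, 266], [266, 17]),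
  ([17, 206], [206, 17]),
  ([204, 204], []),
  ([204, 282, 204, 282], []),
  ([266, 204, 266, 204, 266, 204], []),
  ([1, 282], [282, 1]),
  ([1, 266], [266, 1]),
  ([1, 204], [204, 1]),
  ([193, 193], []),
  ([193, 282, 193, 282], []),
  ([265, 193, 265, 193, 265, 193], []),
  ([1, 265], [265, 1]),
  ([1, 193], [193, 1]),
  ([184, 184], []),
  ([184, 282, 184, 282], []),
  ([264, 184, 264, 184, 264, 184], []),
  ([4, 4], []),
  ([4, 282, 4, 282], []),
  ([4, 264], [264, 4]),
  ([4, 184], [184, 4]),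
  ([179, 179], []),
  ([179, 282, 179, 282], []),
  ([264, 179, 264, 179, 264, 179], []),
  ([0, 282], [282, 0]),
  ([0, 264], [264, 0]),
  ([0, 179], [179, 0]),
  ([264, 193, 264, 193, 264, 193], []),
  ([0, 193], [193, 0])]

/-- inequations -/
def ns : List (List ℕ × List ℕ) := [
  ([65], []),
  ([64], []),
  ([45], []),
  ([36], []),
  ([17], []),
  ([4], []),
  ([3], []),
  ([2], []),
  ([1], []),
  ([0], []),
  ([235], []),
  ([228], []),
  ([221], []),
  ([209], []),
  ([206], []),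
  ([204], []),
  ([193], []),
  ([184], []),
  ([179], []),
  ([193], [])]

/-- the environment -/
noncomputable def LE : List Cfsg.Spor.J4 := runG slpE LJ

theorem runG_front {G : Type*} [Group G] (ws : List (List ℕ)) (L : List G) :
    ∃ F : List G, F.length = ws.length ∧ runG ws L = F ++ L := by
  induction ws generalizing L with
  | nil => exact ⟨[], rfl, rfl⟩
  | cons w ws ih =>
    obtain ⟨F, hF, h⟩ := ih (evG L w :: L)
    refine ⟨F ++ [evG L w], by simp [hF], ?_⟩
    rw [runG_cons, h]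
    simp

theorem getG_runG_old {G : Type*} [Group G] (ws : List (List ℕ)) (L : List G) {n : ℕ}
    (hn : ws.length = n) (k : ℕ) : getG (runG ws L) (n + k) = getG L k := by
  obtain ⟨F, hF, h⟩ := runG_front ws L
  rw [h]
  unfold getG
  rw [List.getD_append_right _ _ _ _ (by omega)]
  congr 1
  omega

theorem slpE_length : slpE.length = 264 := by decide +kernel

theorem getE_old (k : ℕ) : getG LE (264 + k) = getG LJ k := getG_runG_old slpE LJ slpE_length k

theorem map_LE : LE.map rho = runG (slpJ ++ slpE) (gens.map rho) := by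
  unfold LE LJ
  rw [Cfsg.Agent.J4.Classes.runG_append, runG_map, runG_map]

theorem run_env {k : List ℕ → Bool} (h : run 112 (slpJ ++ slpE) codes k = true) :
    ∃ L', List.Forall₂ (Codes 112) (LE.map rho) L' ∧ k L' = true := by
  obtain ⟨L', h', hk⟩ := run_sound codes_gens h
  exact ⟨L', by rw [map_LE]; exact h', hk⟩

theorem sound_of {es ns : List (List ℕ × List ℕ)} (h : run 112 (slpJ ++ slpE) codes
    (fun L => cond (eqs 112 es L) (neqs 112 ns L) false) = true) :
    (∀ p ∈ es, evG LE p.1 = evG LE p.2) ∧ (∀ p ∈ ns, evG LE p.1 ≠ evG LE p.2) := by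
  obtain ⟨L', h'', hk⟩ := run_env h
  rcases hb : eqs 112 es L' with _ | _
  · rw [hb] at hk; exact absurd hk Bool.false_ne_true
  rw [hb] at hk
  have hc : neqs 112 ns L' = true := hk
  refine ⟨fun p hp => ?_, fun p hp => ?_⟩
  · apply rho_injective
    rw [← evG_map, ← evG_map]
    exact eqs_sound h'' hb p hp
  · intro h0
    have h1 := congrArg rho h0
    rw [← evG_map, ← evG_map] at h1
    exact neqs_sound (by norm_num) h'' hc p hp h1

theorem check : run 112 (slpJ ++ slpE) codes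
    (fun L => cond (eqs 112 es L) (neqs 112 ns L) false) = true := by decide +kernel

theorem sound : (∀ p ∈ es, evG LE p.1 = evG LE p.2) ∧ (∀ p ∈ ns, evG LE p.1 ≠ evG LE p.2) :=
  sound_of check

/-- class 3, element number 235 of `LE` -/
noncomputable def a3 : Cfsg.Spor.J4 := getG LE 235

/-- class 4, element number 228 of `LE` -/
noncomputable def a4 : Cfsg.Spor.J4 := getG LE 228

/-- class 5, element number 221 of `LE` -/
noncomputable def a5 : Cfsg.Spor.J4 := getG LE 221

/-- class 6, element number 209 of `LE` -/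
noncomputable def a6 : Cfsg.Spor.J4 := getG LE 209

/-- class 7, element number 206 of `LE` -/
noncomputable def a7a : Cfsg.Spor.J4 := getG LE 206

/-- class 7, element number 204 of `LE` -/
noncomputable def a7b : Cfsg.Spor.J4 := getG LE 204

/-- class 8, element number 193 of `LE` -/
noncomputable def a8 : Cfsg.Spor.J4 := getG LE 193

/-- class 9, element number 184 of `LE` -/
noncomputable def a9a : Cfsg.Spor.J4 := getG LE 184

/-- class 9, element number 179 of `LE` -/
noncomputable def a9b : Cfsg.Spor.J4 := getG LE 179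

/-- class 9, element number 193 of `LE` -/
noncomputable def a9c : Cfsg.Spor.J4 := getG LE 193

theorem e_y0 : getG LE 282 = y0 := getE_old 18

theorem e_v1 : getG LE 272 = v1 := getE_old 8

theorem e_v2 : getG LE 271 = v2 := getE_old 7

theorem e_v3 : getG LE 270 = v3 := getE_old 6

theorem e_v4 : getG LE 269 = v4 := getE_old 5

theorem e_v5 : getG LE 268 = v5 := getE_old 4

theorem e_v6 : getG LE 267 = v6 := getE_old 3

theorem e_v7 : getG LE 266 = v7 := getE_old 2

theorem e_v8 : getG LE 265 = v8 := getE_old 1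

theorem e_v9 : getG LE 264 = v9 := getE_old 0

end Cfsg.Agent.H878.JM.Elts
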