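import Cfsg.Agent.H878.JM.Base

/-!
# S5580, Part III, engine (P): the connecting words

The environment `LP` (newest first): six elements `h8, h7, h5, h3, h2, h1` (0–5), `phi k1, phi k0` (6, 7), then `LJ`.
`h_i * y0 = phi k_j * h_i` and `h_i * v_i = V r * h_i`.
-/

set_option autoImplicit false

open Cfsg

namespace Cfsg.Agent.H878.JM.E2

open Cfsg.Agent.Lib Cfsg.Agent.Lib.F2MatGroup
open Cfsg.Agent.J4.Rep112 Cfsg.Agent.J4.LowerData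
open Cfsg.Agent.H858.VK Cfsg.Agent.H878.JM.Base

/-- further program -/
def slpP : List (List ℕ) := [
  [32, 34, 32, 34, 32, 33, 32, 34, 32, 33, 32, 34, 32, 33, 32, 33, 32, 34, 32, 34, 32, 34, 32, 33, 32, 33, 32, 33, 32, 34, 32, 34, 32, 34, 32, 34, 32, 33, 32, 33, 32, 34, 32, 34, 32, 34, 32, 33, 32, 34],
  [33, 35, 33, 34, 33, 35, 33, 34, 33, 35, 33, 34, 33, 35, 33, 34],
  [22, 25, 26, 28, 30, 34, 35, 34, 36, 34, 36, 34, 35, 34, 36, 34, 35, 34, 36, 34, 35, 34, 35, 34, 35, 34, 36, 34, 36, 34, 36, 34, 35, 34, 35, 34, 36, 34, 35, 34, 35, 34, 35, 34, 35, 34, 35, 34, 35, 34, 35, 34, 35, 34, 35, 34, 36],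
  [22, 23, 24, 25, 27, 29, 31, 35, 37, 35, 37, 35, 36, 35, 37, 35, 36, 35, 37, 35, 36, 35, 36, 35, 36, 35, 37, 35, 37, 35, 37, 35, 36, 35, 36, 35, 37, 35, 36, 35, 36, 35, 36, 35, 36, 35, 36, 35, 36, 35, 36, 35, 36, 35, 36, 35, 37, 35, 36],
  [24, 36, 38, 36, 37, 39, 24, 25, 26, 27, 28, 30, 32, 38, 36, 38, 36, 38, 36, 37, 36, 38, 36, 38, 36, 38, 36, 37, 36, 37, 36, 38, 36, 38, 36, 38, 36, 37, 39, 37, 36, 38, 36, 38, 36, 37, 36, 37, 36, 37, 36, 38, 36, 37, 36, 23, 39, 38, 36, 38, 36, 37],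
  [25, 37, 38, 37, 39, 37, 39, 37, 38, 37, 38, 37, 39, 37, 38, 37, 38, 40, 24, 26, 27, 28, 31, 34, 38, 37, 39, 37, 38, 37, 38, 37, 38, 37, 38, 37, 38, 37, 38, 37, 39, 37, 38, 37, 39, 37, 38, 37, 38, 37, 38, 37, 38, 37, 39, 37, 38, 37, 38, 37, 38, 37, 38, 37, 39, 37, 38, 37, 39, 37, 38, 37, 38, 37, 39, 40, 38, 37, 39, 40, 38, 37, 39, 37, 38, 25],
  [25, 38, 40, 38, 39, 41, 26, 27, 30, 31, 33, 34, 38, 40, 38, 39, 38, 39, 38, 39, 38, 40, 38, 39, 38, 39, 38, 40, 38, 39, 38, 39, 38, 39, 38, 40, 38, 39, 38, 39, 38, 40, 38, 39, 41, 39, 38, 39, 38, 40, 38, 28, 41, 40, 38, 39, 38, 39, 38, 39, 38, 40, 38, 39, 38, 26],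
  [27, 42, 28, 29, 32, 33, 34, 39, 41, 39, 41, 39, 41, 39, 41, 39, 40, 39, 40, 39, 41, 39, 41, 39, 40, 39, 41, 39, 40, 39, 40, 39, 40, 39, 41, 39, 40, 39, 41, 39, 40, 39, 40, 39, 41, 39, 41, 39, 41, 39, 41, 39, 41, 39, 40, 39, 41, 42, 41, 39, 41, 39, 40, 39, 40, 39, 40, 39, 40, 39, 41, 39, 40, 39, 40, 39, 40, 39, 40, 26, 42, 40, 39, 41, 39, 40, 39, 40]]

/-- equations -/
def esP : List (List ℕ × List ℕ) := [
  ([5, 26], [7, 5]),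
  ([5, 16], [29, 30, 33, 34, 35, 36, 5]),
  ([4, 26], [7, 4]),
  ([4, 15], [27, 29, 30, 31, 32, 33, 36, 37, 4]),
  ([3, 26], [6, 3]),
  ([3, 14], [27, 28, 31, 32, 3]),
  ([2, 26], [6, 2]),
  ([2, 12], [28, 30, 32, 34, 2]),
  ([1, 26], [6, 1]),
  ([1, 10], [28, 29, 1]),
  ([0, 26], [6, 0]),
  ([0, 9], [28, 32, 33, 34, 0])]

theorem checkP : run 112 (slpJ ++ slpP) codes (fun L => eqs 112 esP L) = true := by
  decide +kernel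

end Cfsg.Agent.H878.JM.E2
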